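import Mathlib.GroupTheory.Sylow
import Mathlib.GroupTheory.QuotientGroup.Basic
import Mathlib.Data.Nat.Factorization.Basic
import Cfsg.Agent.Lib.Transfer.Fusion
import Cfsg.Agent.Lib.Coprime.Sylow
import Cfsg.Agent.Lib.Cores.Subnormal

/-!
Counting Sylow subgroups: `n_p(G) = n_p(G/N) * |N : N_N(P)|`, M. Hall's product formula and the
`q`-parts of `|K : C_K(P)|` for a `p'`-group `K`.
-/

set_option autoImplicit false

namespace Cfsg.Agent.Counting.SylowCount

open Subgroup

variable {G : Type*} [Group G] {p : ℕ}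

theorem card_sylow_eq_index [Finite G] [Fact p.Prime] (P : Sylow p G) :
    Nat.card (Sylow p G) = (normalizer ((P : Subgroup G) : Set G)).index :=
  Sylow.card_eq_index_normalizer P

theorem relIndex_eq_of_forall {H B N : Subgroup G} (hBN : B ≤ N)
    (h : ∀ n ∈ N, ∃ b ∈ B, b⁻¹ * n ∈ H) : H.relIndex N = H.relIndex B := by
  symm
  refine Nat.card_eq_of_bijective (quotientSubgroupOfEmbeddingOfLE H hBN)
    ⟨(quotientSubgroupOfEmbeddingOfLE H hBN).injective, ?_⟩
  intro x
  induction x using QuotientGroup.induction_on with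
  | H n =>
    obtain ⟨b, hb, hbn⟩ := h n n.2
    refine ⟨QuotientGroup.mk ⟨b, hb⟩, ?_⟩
    rw [quotientSubgroupOfEmbeddingOfLE_apply_mk, QuotientGroup.eq]
    simpa [mem_subgroupOf] using hbn

theorem exists_mem_normalizer [Finite G] [Fact p.Prime] (P : Sylow p G) (N : Subgroup G)
    [N.Normal] {n : G} (h : ((n • P : Sylow p G) : Subgroup G) ≤ (P : Subgroup G) ⊔ N) :
    ∃ n' ∈ normalizer ((P : Subgroup G) : Set G), n' * n⁻¹ ∈ N := by
  obtain ⟨k, hk, hkP⟩ := Transfer.Fusion.exists_conj_eq_of_le h le_sup_left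
  obtain ⟨u, hu, v, hv, rfl⟩ := mem_sup_of_normal_right.1 hk
  refine ⟨v * n, mem_normalizer_fintype ?_, by simpa [mul_assoc] using hv⟩
  intro y hy
  have h1 : (u * v) * (n * y * n⁻¹) * (u * v)⁻¹ ∈ (P : Subgroup G) := by
    rw [← hkP]
    refine Transfer.Fusion.conj_mem_map_conj (Transfer.Fusion.mem_smul_sylow_iff.2 ?_) _
    have hy' : n⁻¹ * (n * y * n⁻¹) * n = y := by group
    rw [hy']; exact hy
  have h2 : (v * n) * y * (v * n)⁻¹ = u⁻¹ * ((u * v) * (n * y * n⁻¹) * (u * v)⁻¹) * u := by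
    group
  rw [h2]
  exact mul_mem (mul_mem (inv_mem hu) h1) hu

theorem normalizer_map_mk' [Finite G] [Fact p.Prime] (P : Sylow p G) (N : Subgroup G) [N.Normal] :
    normalizer (((P : Subgroup G).map (QuotientGroup.mk' N)) : Set (G ⧸ N)) =
      (normalizer ((P : Subgroup G) : Set G)).map (QuotientGroup.mk' N) := by
  refine le_antisymm ?_ (le_normalizer_map _)
  intro x hx
  obtain ⟨n, rfl⟩ := QuotientGroup.mk'_surjective N x
  have hle : ((n • P : Sylow p G) : Subgroup G) ≤ (P : Subgroup G) ⊔ N := by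
    intro y hy
    have hy' := Transfer.Fusion.mem_smul_sylow_iff.1 hy
    have h2 := (Subgroup.mem_normalizer_iff.1 hx _).1
      (mem_map_of_mem (QuotientGroup.mk' N) hy')
    rw [← map_inv, ← map_mul, ← map_mul] at h2
    have h3 : n * (n⁻¹ * y * n) * n⁻¹ = y := by group
    rw [h3] at h2
    obtain ⟨w, hw, hwy⟩ := h2
    have h4 : y = w * (w⁻¹ * y) := by group
    rw [h4]
    exact mul_mem (mem_sup_left hw) (mem_sup_right (QuotientGroup.eq.1 hwy))
  obtain ⟨n', hn', hN⟩ := exists_mem_normalizer P N hle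
  refine ⟨n', hn', ?_⟩
  rw [QuotientGroup.mk'_apply, QuotientGroup.mk'_apply, QuotientGroup.eq]
  have := ‹N.Normal›.conj_mem _ (inv_mem hN) n⁻¹
  have he : n⁻¹ * (n' * n⁻¹)⁻¹ * n⁻¹⁻¹ = n'⁻¹ * n := by group
  rwa [he] at this

/-- `n_p(G) = n_p(G/N) * |N : N_N(P)|`. -/
theorem card_sylow_eq_mul [Finite G] [Fact p.Prime] (P : Sylow p G) (N : Subgroup G) [N.Normal] :
    Nat.card (Sylow p G) =
      Nat.card (Sylow p (G ⧸ N)) * (normalizer ((P : Subgroup G) : Set G)).relIndex N := by
  set H := normalizer ((P : Subgroup G) : Set G)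
  rw [card_sylow_eq_index P,
    card_sylow_eq_index (P.mapSurjective (QuotientGroup.mk'_surjective N))]
  have h1 : (H.map (QuotientGroup.mk' N)).index = (H ⊔ N).index := by
    rw [index_map, QuotientGroup.ker_mk', MonoidHom.range_eq_top.2
      (QuotientGroup.mk'_surjective N), index_top, mul_one]
  have h2 : H.relIndex (H ⊔ N) = H.relIndex N := by
    refine relIndex_eq_of_forall le_sup_right fun n hn => ?_
    obtain ⟨a, ha, b, hb, rfl⟩ := mem_sup_of_normal_right.1 hn
    refine ⟨a * b * a⁻¹, ‹N.Normal›.conj_mem b hb a, ?_⟩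
    have : (a * b * a⁻¹)⁻¹ * (a * b) = a := by group
    rwa [this]
  rw [Sylow.coe_mapSurjective, normalizer_map_mk', h1, ← h2,
    ← relIndex_mul_index (le_sup_left : H ≤ H ⊔ N), mul_comm]

theorem card_sylow_of_le [Finite G] [Fact p.Prime] (P : Sylow p G) {H : Subgroup G}
    (h : (P : Subgroup G) ≤ H) :
    Nat.card (Sylow p H) = (normalizer ((P : Subgroup G) : Set G)).relIndex H := by
  rw [card_sylow_eq_index (P.subtype h), Sylow.coe_subtype,
    ← subgroupOf_normalizer_eq h]
  rfl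

theorem card_sylow_normal [Finite G] [Fact p.Prime] (P : Sylow p G) (K : Subgroup G) [K.Normal] :
    Nat.card (Sylow p K) =
      (normalizer (((P : Subgroup G) ⊓ K : Subgroup G) : Set G)).relIndex K := by
  have hT := Cores.sylow_subgroupOf_isSubnormal P (Normal.isSubnormal ‹K.Normal›)
  rw [card_sylow_eq_index (IsPGroup.toSylow (P.2.comap_subtype (K := K)) hT)]
  show (normalizer (((P : Subgroup G).subgroupOf K : Subgroup K) : Set K)).index = _
  rw [← inf_subgroupOf_right (P : Subgroup G) K]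
  show (normalizer ((((P : Subgroup G) ⊓ K).subgroupOf K : Subgroup K) : Set K)).index = _
  rw [← subgroupOf_normalizer_eq inf_le_right]
  rfl

theorem normalizer_inf_eq_normalizer_inf [Finite G] [Fact p.Prime] (P : Sylow p G)
    (K : Subgroup G) [K.Normal] :
    (normalizer ((P : Subgroup G) : Set G) ⊓
        normalizer (((P : Subgroup G) ⊓ K : Subgroup G) : Set G)) ⊓ K =
      normalizer ((P : Subgroup G) : Set G) ⊓ K := by
  refine le_antisymm (inf_le_inf_right _ inf_le_left) fun x hx => ⟨⟨hx.1, ?_⟩, hx.2⟩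
  refine mem_normalizer_fintype fun y hy => ⟨?_, ‹K.Normal›.conj_mem y hy.2 x⟩
  exact (Subgroup.mem_normalizer_iff.1 hx.1 y).1 hy.1

/-- `n_p(G) = n_p(G/K) n_p(K) |K ∩ N(D) : K ∩ N(P)|`, `D = P ∩ K`. -/
theorem card_sylow_eq_mul_mul [Finite G] [Fact p.Prime] (P : Sylow p G) (K : Subgroup G)
    [K.Normal] :
    Nat.card (Sylow p G) = Nat.card (Sylow p (G ⧸ K)) * Nat.card (Sylow p K) *
      (normalizer ((P : Subgroup G) : Set G)).relIndex
        (K ⊓ normalizer (((P : Subgroup G) ⊓ K : Subgroup G) : Set G)) := by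
  rw [card_sylow_eq_mul P K, card_sylow_normal P K, mul_assoc]
  congr 1
  set A := normalizer ((P : Subgroup G) : Set G)
  set B := normalizer (((P : Subgroup G) ⊓ K : Subgroup G) : Set G)
  rw [inf_comm K B, mul_comm (B.relIndex K), relIndex_inf_mul_relIndex,
    ← inf_relIndex_right (A ⊓ B) K, normalizer_inf_eq_normalizer_inf, inf_relIndex_right]

/-- The third factor is the number of Sylow subgroups of `N/D`, `N = PK ∩ N(D)`. -/
theorem card_sylow_third [Finite G] [Fact p.Prime] (P : Sylow p G) (K : Subgroup G) [K.Normal]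
    (N : Subgroup G)
    (hN : N = ((P : Subgroup G) ⊔ K) ⊓
      normalizer (((P : Subgroup G) ⊓ K : Subgroup G) : Set G))
    [(((P : Subgroup G) ⊓ K).subgroupOf N).Normal] :
    Nat.card (Sylow p (N ⧸ ((P : Subgroup G) ⊓ K).subgroupOf N)) =
      (normalizer ((P : Subgroup G) : Set G)).relIndex
        (K ⊓ normalizer (((P : Subgroup G) ⊓ K : Subgroup G) : Set G)) := by
  have hPD : (P : Subgroup G) ≤ normalizer (((P : Subgroup G) ⊓ K : Subgroup G) : Set G) := by
    intro x hx
    exact mem_normalizer_fintype fun y hy =>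
      ⟨(P : Subgroup G).mul_mem ((P : Subgroup G).mul_mem hx hy.1) ((P : Subgroup G).inv_mem hx),
        ‹K.Normal›.conj_mem y hy.2 x⟩
  have hPN : (P : Subgroup G) ≤ N := by rw [hN]; exact le_inf le_sup_left hPD
  have h1 := card_sylow_eq_mul (P.subtype hPN) (((P : Subgroup G) ⊓ K).subgroupOf N)
  have h2 : (normalizer ((P.subtype hPN : Subgroup N) : Set N)).relIndex
      (((P : Subgroup G) ⊓ K).subgroupOf N) = 1 :=
    relIndex_eq_one.2 fun x hx => le_normalizer hx.1
  rw [h2, mul_one] at h1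
  rw [← h1, card_sylow_of_le P hPN]
  refine relIndex_eq_of_forall (by rw [hN]; exact inf_le_inf_right _ le_sup_right) fun n hn => ?_
  rw [hN] at hn
  obtain ⟨u, hu, v, hv, rfl⟩ := mem_sup_of_normal_right.1 hn.1
  refine ⟨u * v * u⁻¹, ⟨‹K.Normal›.conj_mem v hv u, ?_⟩, ?_⟩
  · exact Subgroup.mul_mem _ hn.2 (Subgroup.inv_mem _ (hPD hu))
  · have he : (u * v * u⁻¹)⁻¹ * (u * v) = u := by group
    rw [he]
    exact le_normalizer hu

theorem card_sylow_eq_one_of_normal [Finite G] [Fact p.Prime] (P : Sylow p G)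
    (h : (P : Subgroup G).Normal) : Nat.card (Sylow p G) = 1 := by
  rw [card_sylow_eq_index P, normalizer_eq_top_iff.2 h, index_top]

theorem card_sylow_eq_one_of_isPGroup [Finite G] [Fact p.Prime] (h : IsPGroup p G) :
    Nat.card (Sylow p G) = 1 := by
  obtain ⟨P⟩ := (Sylow.nonempty : Nonempty (Sylow p G))
  refine card_sylow_eq_one_of_normal P ?_
  rw [← P.3 (h.to_subgroup ⊤) le_top]
  infer_instance

theorem card_sylow_eq_one_of_not_dvd [Finite G] [Fact p.Prime] (h : ¬ p ∣ Nat.card G) :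
    Nat.card (Sylow p G) = 1 := by
  obtain ⟨P⟩ := (Sylow.nonempty : Nonempty (Sylow p G))
  refine card_sylow_eq_one_of_normal P ?_
  have : (P : Subgroup G) = ⊥ := by
    rw [← card_eq_one]
    rcases P.2.card_eq_or_dvd with h1 | h1
    · exact h1
    · exact absurd (h1.trans (card_subgroup_dvd_card _)) h
  rw [this]
  infer_instance

theorem normalizer_inf_eq_centralizer_inf [Finite G] {P K : Subgroup G}
    (hK : (P : Subgroup G) ≤ normalizer (K : Set G)) (hd : P ⊓ K = ⊥) :
    normalizer (P : Set G) ⊓ K = centralizer (P : Set G) ⊓ K := by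
  refine le_antisymm (fun x hx => ⟨mem_centralizer_iff.2 ?_, hx.2⟩)
    (inf_le_inf_right _ (centralizer_le_normalizer _))
  intro y hy
  have h1 : x * y * x⁻¹ * y⁻¹ ∈ P ⊓ K := by
    refine ⟨P.mul_mem ((Subgroup.mem_normalizer_iff.1 hx.1 y).1 hy) (P.inv_mem hy), ?_⟩
    have := (Subgroup.mem_normalizer_iff.1 (hK hy) x⁻¹).1 (inv_mem hx.2)
    have he : x * y * x⁻¹ * y⁻¹ = x * (y * x⁻¹ * y⁻¹) := by group
    rw [he]
    exact mul_mem hx.2 this
  rw [hd, mem_bot] at h1
  have he : x * y = (x * y * x⁻¹ * y⁻¹) * (y * x) := by group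
  rw [he, h1, one_mul]

/-- For a `p`-group `P` acting on a `p'`-group `K`, every prime-power part of `|K : C_K(P)|` is
congruent to `1` modulo `p`. -/
theorem qpart_relIndex_centralizer_modEq_one [Finite G] [hp : Fact p.Prime] {P K : Subgroup G}
    (hP : IsPGroup p P) (hPK : P ≤ normalizer (K : Set G)) (hK : ¬ p ∣ Nat.card K) (q : ℕ) :
    q ^ ((centralizer (P : Set G)).relIndex K).factorization q ≡ 1 [MOD p] := by
  set m := (centralizer (P : Set G)).relIndex K with hm
  by_cases hq : q.Prime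
  swap
  · rw [Nat.factorization_eq_zero_of_not_prime _ hq, pow_zero]
  haveI : Fact q.Prime := ⟨hq⟩
  by_cases hqp : q = p
  · subst hqp
    rw [Nat.factorization_eq_zero_of_not_dvd, pow_zero]
    exact fun hd => hK (hd.trans (relIndex_dvd_card _ _))
  have hcop : (Nat.card P).Coprime (Nat.card K) := by
    obtain ⟨k, hk⟩ := hP.exists_card_eq
    rw [hk]
    exact Nat.Coprime.pow_left _ (hp.out.coprime_iff_not_dvd.2 hK)
  set C := centralizer (P : Set G) ⊓ K with hC
  obtain ⟨T⟩ := (Sylow.nonempty : Nonempty (Sylow q C))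
  set U := (T : Subgroup C).map C.subtype with hU
  have hUC : U ≤ C := map_subtype_le _
  obtain ⟨Q₀, hUQ, hPQ⟩ := Coprime.exists_invariant_sylow_ge hPK hcop
    (Or.inl (Coprime.isSolvable_of_isPGroup hP)) (hUC.trans inf_le_right) (T.2.map C.subtype)
    (fun x hx => mem_normalizer_fintype fun y hy => by
      have hxy := mem_centralizer_iff.1 (hUC hy).1 x hx
      rwa [hxy, mul_inv_cancel_right])
  set Q := (Q₀ : Subgroup K).map K.subtype with hQ
  have hQK : Q ≤ K := map_subtype_le _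
  have hQC : centralizer (P : Set G) ⊓ Q = U := by
    refine le_antisymm ?_ (le_inf (hUC.trans inf_le_left) hUQ)
    have h1 : IsPGroup q ↥((centralizer (P : Set G) ⊓ Q).subgroupOf C) :=
      ((Q₀.2.map K.subtype).to_le inf_le_right).comap_subtype
    have h2 : (T : Subgroup C) ≤ (centralizer (P : Set G) ⊓ Q).subgroupOf C := fun x hx =>
      ⟨(hUC ⟨x, hx, rfl⟩).1, hUQ ⟨x, hx, rfl⟩⟩
    have h3 := T.3 h1 h2
    intro x hx
    refine ⟨⟨x, hx.1, hQK hx.2⟩, ?_, rfl⟩
    rw [SetLike.mem_coe, ← h3]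
    exact hx
  -- fixed points of `P` on `Q`
  letI : MulAction P Q := MulAction.compHom Q
    (Q.normalizerMonoidHom.comp (Subgroup.inclusion hPQ))
  have hfix := hP.card_modEq_card_fixedPoints Q
  have hfc : Nat.card (MulAction.fixedPoints P Q) = Nat.card U := by
    rw [← hQC]
    refine Nat.card_congr
      { toFun := fun x => ⟨(x.1 : G), mem_centralizer_iff.2 fun y hy => ?_, x.1.2⟩
        invFun := fun x => ⟨⟨x.1, x.2.2⟩, fun y => Subtype.ext ?_⟩
        left_inv := fun x => rfl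
        right_inv := fun x => rfl }
    · have h1 : (y * (x.1 : G) * y⁻¹ : G) = x.1 := congrArg Subtype.val (x.2 ⟨y, hy⟩)
      conv_rhs => rw [← h1]
      group
    · show ((y : G) * x.1 * (y : G)⁻¹ : G) = x.1
      rw [mem_centralizer_iff.1 x.2.1 y y.2, mul_inv_cancel_right]
  rw [hfc, Subgroup.card_subtype, hU, Subgroup.card_subtype, T.card_eq_multiplicity,
    Q₀.card_eq_multiplicity] at hfix
  have hmul : Nat.card C * m = Nat.card K := by
    rw [hm, ← inf_relIndex_right, ← hC, ← relIndex_bot_left, ← relIndex_bot_left]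
    exact relIndex_mul_relIndex _ _ _ bot_le inf_le_right
  have hfac : (Nat.card K).factorization q = (Nat.card C).factorization q + m.factorization q := by
    rw [← hmul, Nat.factorization_mul Nat.card_pos.ne'
      (ne_zero_of_dvd_ne_zero Nat.card_pos.ne' (relIndex_dvd_card _ _))]
    rfl
  rw [hfac, pow_add] at hfix
  refine Nat.ModEq.cancel_left_of_coprime (c := q ^ (Nat.card C).factorization q) ?_
    (by rw [mul_one]; exact hfix)
  exact Nat.Coprime.pow_right _ ((Nat.coprime_primes hp.out hq).2 (Ne.symm hqp))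

theorem exists_normal_pGroup_of_isSolvable [Finite G] [Nontrivial G] (h : Group.IsSolvable G) :
    ∃ (q : ℕ) (N : Subgroup G), q.Prime ∧ N.Normal ∧ N ≠ ⊥ ∧ IsPGroup q N := by
  classical
  obtain ⟨n, hn⟩ := h.solvable
  have hex : ∃ n, derivedSeries G n = ⊥ := ⟨n, hn⟩
  obtain ⟨k, hk⟩ : ∃ k, Nat.find hex = k + 1 := by
    refine Nat.exists_eq_succ_of_ne_zero fun h0 => ?_
    have h1 := Nat.find_spec hex
    rw [h0, derivedSeries_zero] at h1
    exact (top_ne_bot : (⊤ : Subgroup G) ≠ ⊥) h1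
  set A := derivedSeries G k with hA
  have hAne : A ≠ ⊥ := Nat.find_min hex (by omega)
  haveI hAcomm : IsMulCommutative A := by
    rw [← commutator_self_eq_bot_iff]
    have := Nat.find_spec hex
    rwa [hk, derivedSeries_succ] at this
  obtain ⟨q, hq, hqA⟩ : ∃ q, q.Prime ∧ q ∣ Nat.card A :=
    Nat.exists_prime_and_dvd (by rwa [Ne, card_eq_one])
  haveI : Fact q.Prime := ⟨hq⟩
  obtain ⟨T⟩ := (Sylow.nonempty : Nonempty (Sylow q A))
  haveI : (T : Subgroup A).Normal :=
    ⟨fun x hx y => by rwa [hAcomm.is_comm.comm y x, mul_inv_cancel_right]⟩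
  haveI := T.characteristic_of_normal ‹_›
  refine ⟨q, (T : Subgroup A).map A.subtype, hq, Cores.normal_map_subtype A T, ?_, T.2.map _⟩
  rw [Ne, Subgroup.map_eq_bot_iff_of_injective _ A.subtype_injective]
  exact T.ne_bot_of_dvd_card hqA

end Cfsg.Agent.Counting.SylowCount
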