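import Mathlib

/-!
Number of conjugacy classes as the sum of centralizer orders; Gallagher's inequalities.
-/

set_option autoImplicit false

namespace Cfsg.Agent.Counting.Commuting

open Subgroup

variable {G : Type*} [Group G]

theorem sum_card_centralizer [Fintype G] :
    ∑ x : G, Nat.card ↥(centralizer ({x} : Set G)) =
      Nat.card (ConjClasses G) * Nat.card G := by
  rw [← card_comm_eq_card_conjClasses_mul_card, ← Nat.card_sigma]
  exact Nat.card_congr
    { toFun := fun a => ⟨(a.2.1, a.1), mem_centralizer_singleton_iff.1 a.2.2⟩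
      invFun := fun p => ⟨p.1.2, p.1.1, mem_centralizer_singleton_iff.2 p.2⟩
      left_inv := fun _ => rfl
      right_inv := fun _ => rfl }

theorem card_inf_centralizer_eq (Y : Subgroup G) (y : Y) :
    Nat.card ↥(Y ⊓ centralizer ({(y : G)} : Set G)) = Nat.card ↥(centralizer ({y} : Set Y)) :=
  Nat.card_congr
    { toFun := fun a => ⟨⟨a, a.2.1⟩, mem_centralizer_singleton_iff.2
        (Subtype.ext (mem_centralizer_singleton_iff.1 a.2.2))⟩
      invFun := fun a => ⟨a.1, a.1.2, mem_centralizer_singleton_iff.2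
        (congrArg Subtype.val (mem_centralizer_singleton_iff.1 a.2) : _)⟩
      left_inv := fun _ => rfl
      right_inv := fun _ => rfl }

theorem sum_inf_centralizer_swap [Fintype G] (Y : Subgroup G) [Fintype Y] :
    ∑ x : G, Nat.card ↥(Y ⊓ centralizer ({x} : Set G)) =
      ∑ y : Y, Nat.card ↥(centralizer ({(y : G)} : Set G)) := by
  rw [← Nat.card_sigma, ← Nat.card_sigma]
  exact Nat.card_congr
    { toFun := fun a => ⟨⟨a.2.1, a.2.2.1⟩, a.1,
        mem_centralizer_singleton_iff.2 (mem_centralizer_singleton_iff.1 a.2.2.2).symm⟩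
      invFun := fun b => ⟨b.2.1, b.1.1, b.1.2,
        mem_centralizer_singleton_iff.2 (mem_centralizer_singleton_iff.1 b.2.2).symm⟩
      left_inv := fun _ => rfl
      right_inv := fun _ => rfl }

theorem card_eq_card_inf_mul (Y C : Subgroup G) :
    Nat.card C = Nat.card ↥(Y ⊓ C) * Y.relIndex C := by
  rw [← relIndex_bot_left, ← relIndex_bot_left, ← inf_relIndex_right Y C]
  exact (relIndex_mul_relIndex _ _ _ bot_le inf_le_right).symm

theorem relIndex_le_index [Finite G] (Y C : Subgroup G) : Y.relIndex C ≤ Y.index := by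
  rw [← relIndex_top_right]
  exact relIndex_le_of_le_right le_top (by rw [relIndex_top_right]; exact FiniteIndex.index_ne_zero)

theorem card_le_card_inf_mul_index [Finite G] (Y C : Subgroup G) :
    Nat.card C ≤ Nat.card ↥(Y ⊓ C) * Y.index := by
  rw [card_eq_card_inf_mul Y C]
  exact Nat.mul_le_mul_left _ (relIndex_le_index Y C)

/-- The number of classes of a subgroup, against the index. -/
theorem card_conjClasses_subgroup_le [Finite G] (Y : Subgroup G) :
    Nat.card (ConjClasses Y) ≤ Y.index * Nat.card (ConjClasses G) := by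
  refine le_of_mul_le_mul_right (a := Nat.card Y) ?_ Nat.card_pos
  calc Nat.card (ConjClasses Y) * Nat.card Y
      ≤ Nat.card (ConjClasses G) * Nat.card G := by
        rw [← card_comm_eq_card_conjClasses_mul_card, ← card_comm_eq_card_conjClasses_mul_card]
        refine Nat.card_le_card_of_injective
          (fun p => ⟨(p.1.1.1, p.1.2.1), congrArg Subtype.val p.2⟩) fun p q h => ?_
        have h' := congrArg Subtype.val h
        exact Subtype.ext (Prod.ext (Subtype.ext (congrArg Prod.fst h'))
          (Subtype.ext (congrArg Prod.snd h')))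
    _ = Y.index * Nat.card (ConjClasses G) * Nat.card Y := by
        rw [← Y.card_mul_index]; ring

theorem card_conjClasses_le_of_step [Fintype G] (Y : Subgroup G) [Fintype Y] :
    ∑ y : Y, Nat.card ↥(centralizer ({(y : G)} : Set G)) ≤
      Y.index * (Nat.card (ConjClasses Y) * Nat.card Y) := by
  rw [← sum_card_centralizer, Finset.mul_sum]
  refine Finset.sum_le_sum fun y _ => ?_
  rw [← card_inf_centralizer_eq, mul_comm]
  exact card_le_card_inf_mul_index _ _

theorem card_conjClasses_le [Finite G] (Y : Subgroup G) :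
    Nat.card (ConjClasses G) ≤ Y.index * Nat.card (ConjClasses Y) := by
  classical
  haveI := Fintype.ofFinite G
  refine le_of_mul_le_mul_right (a := Nat.card G) ?_ Nat.card_pos
  calc Nat.card (ConjClasses G) * Nat.card G
      = ∑ x : G, Nat.card ↥(centralizer ({x} : Set G)) := sum_card_centralizer.symm
    _ ≤ ∑ x : G, Nat.card ↥(Y ⊓ centralizer ({x} : Set G)) * Y.index :=
        Finset.sum_le_sum fun x _ => card_le_card_inf_mul_index _ _
    _ = Y.index * ∑ y : Y, Nat.card ↥(centralizer ({(y : G)} : Set G)) := by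
        rw [← Finset.sum_mul, sum_inf_centralizer_swap, mul_comm]
    _ ≤ Y.index * (Y.index * (Nat.card (ConjClasses Y) * Nat.card Y)) :=
        Nat.mul_le_mul_left _ (card_conjClasses_le_of_step Y)
    _ = Y.index * Nat.card (ConjClasses Y) * Nat.card G := by rw [← Y.card_mul_index]; ring

theorem card_conjClasses_lt [Finite G] (Y : Subgroup G) (hY : ¬ Y.Normal) :
    Nat.card (ConjClasses G) < Y.index * Nat.card (ConjClasses Y) := by
  classical
  haveI := Fintype.ofFinite G
  obtain ⟨y, hy, g, hg⟩ : ∃ y ∈ Y, ∃ g : G, g * y * g⁻¹ ∉ Y := by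
    by_contra h
    push Not at h
    exact hY ⟨h⟩
  have hlt : Y.relIndex (centralizer ({y} : Set G)) < Y.index := by
    refine lt_of_le_of_ne (relIndex_le_index _ _) fun h => hg ?_
    let f := quotientSubgroupOfEmbeddingOfLE Y (le_top : centralizer ({y} : Set G) ≤ ⊤)
    have hf : Function.Bijective f := by
      refine f.injective.bijective_of_nat_card_le ?_
      show (Y.subgroupOf ⊤).index ≤ (Y.subgroupOf _).index
      rw [← relIndex, ← relIndex, relIndex_top_right, h]
    obtain ⟨q, hq⟩ := hf.2 (QuotientGroup.mk ⟨g⁻¹, mem_top _⟩)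
    induction q using QuotientGroup.induction_on with
    | H c =>
      rw [quotientSubgroupOfEmbeddingOfLE_apply_mk, QuotientGroup.eq] at hq
      rw [mem_subgroupOf] at hq
      simp only [Subgroup.coe_mul, Subgroup.coe_inv, Subgroup.inclusion] at hq
      have hc := mem_centralizer_singleton_iff.1 c.2
      have hw : (c : G)⁻¹ * g⁻¹ ∈ Y := hq
      have he : g * y * g⁻¹ =
          ((c : G)⁻¹ * g⁻¹)⁻¹ * ((c : G)⁻¹ * (y * c)) * ((c : G)⁻¹ * g⁻¹) := by group
      rw [he, ← hc, inv_mul_cancel_left]
      exact mul_mem (mul_mem (inv_mem hw) hy) hw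
  refine lt_of_mul_lt_mul_right (a := Nat.card G) ?_ (Nat.zero_le _)
  calc Nat.card (ConjClasses G) * Nat.card G
      = ∑ x : G, Nat.card ↥(centralizer ({x} : Set G)) := sum_card_centralizer.symm
    _ < ∑ x : G, Nat.card ↥(Y ⊓ centralizer ({x} : Set G)) * Y.index := by
        refine Finset.sum_lt_sum (fun x _ => card_le_card_inf_mul_index _ _)
          ⟨y, Finset.mem_univ _, ?_⟩
        rw [card_eq_card_inf_mul Y]
        exact Nat.mul_lt_mul_of_pos_left hlt Nat.card_pos
    _ = Y.index * ∑ y : Y, Nat.card ↥(centralizer ({(y : G)} : Set G)) := by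
        rw [← Finset.sum_mul, sum_inf_centralizer_swap, mul_comm]
    _ ≤ Y.index * (Y.index * (Nat.card (ConjClasses Y) * Nat.card Y)) :=
        Nat.mul_le_mul_left _ (card_conjClasses_le_of_step Y)
    _ = Y.index * Nat.card (ConjClasses Y) * Nat.card G := by rw [← Y.card_mul_index]; ring

/-- `k(G) ≤ k(N) k(G/N)`. -/
theorem card_conjClasses_le_mul [Finite G] (N : Subgroup G) [N.Normal] :
    Nat.card (ConjClasses G) ≤ Nat.card (ConjClasses N) * Nat.card (ConjClasses (G ⧸ N)) := by
  classical
  haveI := Fintype.ofFinite G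
  haveI := Fintype.ofFinite (G ⧸ N)
  haveI := Fintype.ofFinite N
  set π := QuotientGroup.mk' N with hπ
  have h1 : ∀ x : G, Nat.card ↥(centralizer ({x} : Set G)) ≤
      Nat.card ↥(N ⊓ centralizer ({x} : Set G)) *
        Nat.card ↥(centralizer ({π x} : Set (G ⧸ N))) := by
    intro x
    rw [card_eq_card_inf_mul N (centralizer ({x} : Set G))]
    refine Nat.mul_le_mul_left _ ?_
    have h : N.relIndex (centralizer ({x} : Set G)) =
        Nat.card ↥((centralizer ({x} : Set G)).map π) := by
      rw [← relIndex_ker, hπ, QuotientGroup.ker_mk']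
    rw [h]
    refine Nat.le_of_dvd Nat.card_pos (card_dvd_of_le ?_)
    rintro _ ⟨y, hy, rfl⟩
    rw [mem_centralizer_singleton_iff, ← map_mul, ← map_mul]
    exact congrArg _ (mem_centralizer_singleton_iff.1 hy)
  have h2 : ∀ c : G ⧸ N, ∑ x ∈ Finset.univ.filter (fun x => π x = c),
      Nat.card ↥(N ⊓ centralizer ({x} : Set G)) ≤ Nat.card (ConjClasses N) * Nat.card N := by
    intro c
    rw [← sum_card_centralizer,
      ← Finset.sum_coe_sort (Finset.univ.filter (fun x => π x = c)),
      ← Nat.card_sigma, ← Nat.card_sigma]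
    -- choose, for each `n ∈ N`, one element of the coset commuting with it
    let S : N → Type _ := fun n => {x : G // π x = c ∧ Commute (n : G) x}
    refine le_trans (Nat.card_le_card_of_injective
      (β := Σ n : N, S n) (fun a => ⟨⟨a.2.1, a.2.2.1⟩, a.1.1, (Finset.mem_filter.1 a.1.2).2,
        mem_centralizer_singleton_iff.1 a.2.2.2⟩) ?_) ?_
    · rintro ⟨⟨x, hx⟩, ⟨n, hn⟩⟩ ⟨⟨x', hx'⟩, ⟨n', hn'⟩⟩ h
      simp only [Sigma.mk.inj_iff] at h
      obtain ⟨h1, h2⟩ := h
      obtain rfl : n = n' := congrArg Subtype.val h1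
      have h3 := eq_of_heq h2
      obtain rfl : x = x' := congrArg Subtype.val h3
      rfl
    rw [Nat.card_sigma, Nat.card_sigma]
    refine Finset.sum_le_sum fun n _ => ?_
    rcases isEmpty_or_nonempty (S n) with he | ⟨⟨x₀, hx₀, hc₀⟩⟩
    · simp
    refine Nat.card_le_card_of_injective (fun x => ⟨⟨x₀⁻¹ * x.1, ?_⟩, ?_⟩) fun x x' h => ?_
    · exact QuotientGroup.eq.1 (hx₀.trans x.2.1.symm)
    · rw [mem_centralizer_singleton_iff]
      exact Subtype.ext ((hc₀.inv_right).mul_right x.2.2).symm.eq
    · exact Subtype.ext (by simpa [Subtype.ext_iff] using h)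
  refine le_of_mul_le_mul_right (a := Nat.card G) ?_ Nat.card_pos
  calc Nat.card (ConjClasses G) * Nat.card G
      = ∑ x : G, Nat.card ↥(centralizer ({x} : Set G)) := sum_card_centralizer.symm
    _ ≤ ∑ x : G, Nat.card ↥(N ⊓ centralizer ({x} : Set G)) *
          Nat.card ↥(centralizer ({π x} : Set (G ⧸ N))) := Finset.sum_le_sum fun x _ => h1 x
    _ = ∑ c : G ⧸ N, (∑ x ∈ Finset.univ.filter (fun x => π x = c),
          Nat.card ↥(N ⊓ centralizer ({x} : Set G))) *
            Nat.card ↥(centralizer ({c} : Set (G ⧸ N))) := by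
        rw [← Finset.sum_fiberwise Finset.univ π]
        refine Finset.sum_congr rfl fun c _ => ?_
        rw [Finset.sum_mul]
        exact Finset.sum_congr rfl fun x hx => by rw [(Finset.mem_filter.1 hx).2]
    _ ≤ ∑ c : G ⧸ N, Nat.card (ConjClasses N) * Nat.card N *
          Nat.card ↥(centralizer ({c} : Set (G ⧸ N))) :=
        Finset.sum_le_sum fun c _ => Nat.mul_le_mul_right _ (h2 c)
    _ = Nat.card (ConjClasses N) * Nat.card (ConjClasses (G ⧸ N)) * Nat.card G := by
        rw [← Finset.mul_sum, sum_card_centralizer, ← N.card_mul_index, ← index_eq_card]; ring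

end Cfsg.Agent.Counting.Commuting
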