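import Cfsg.Agent.Lib.Transfer.Fusion
import Mathlib.GroupTheory.SpecificGroups.Cyclic

/-!
Brodkey's theorem on intersections of abelian Sylow subgroups, and `|P| = p` when there are fewer
than `p ^ 2` Sylow `p`-subgroups and no nontrivial element lies in all of them.
-/

set_option autoImplicit false

namespace Cfsg.Agent.Counting.Brodkey

open Subgroup

variable {G : Type*} [Group G] [Finite G] {p : ℕ} [Fact p.Prime]

/-- **Brodkey**: if the Sylow `p`-subgroups are abelian, two of them, one of which may be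
prescribed, meet in the intersection of all. -/
theorem exists_inf_le_all (hab : ∀ S : Sylow p G, IsMulCommutative (S : Subgroup G))
    (P : Sylow p G) :
    ∃ Q : Sylow p G, ∀ R : Sylow p G, (P : Subgroup G) ⊓ Q ≤ R := by
  obtain ⟨⟨A, B⟩, hmin⟩ := Finite.exists_min
    (fun AB : Sylow p G × Sylow p G => Nat.card ↥((AB.1 : Subgroup G) ⊓ AB.2))
  set D := (A : Subgroup G) ⊓ B with hD
  have hDC : ∀ S : Sylow p G, D ≤ S → (S : Subgroup G) ≤ centralizer (D : Set G) := by
    intro S hS x hx
    rw [mem_centralizer_iff]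
    intro y hy
    exact congrArg Subtype.val ((hab S).is_comm.comm ⟨y, hS hy⟩ ⟨x, hx⟩)
  have hall : ∀ R : Sylow p G, D ≤ R := by
    intro R
    obtain ⟨c, hc, hcA⟩ := Transfer.Fusion.exists_conj_le_of_isPGroup A
      (hDC A inf_le_left) (R.2.to_le (inf_le_left : (R : Subgroup G) ⊓
        centralizer (D : Set G) ≤ R)) inf_le_right
    have h1 : ((c • R : Sylow p G) : Subgroup G) ⊓ B ≤ D := by
      intro x hx
      refine ⟨hcA (Transfer.Fusion.mem_map_conj.2 ?_), hx.2⟩
      refine ⟨Transfer.Fusion.mem_smul_sylow_iff.1 hx.1, ?_⟩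
      exact Subgroup.mul_mem _ (Subgroup.mul_mem _ (Subgroup.inv_mem _ hc) (hDC B inf_le_right hx.2)) hc
    have h2 := eq_of_le_of_card_ge h1 (hmin (c • R, B))
    intro d hd
    have h3 : c⁻¹ * d * c ∈ (R : Subgroup G) :=
      Transfer.Fusion.mem_smul_sylow_iff.1 (h2.symm.le hd).1
    have hcd := mem_centralizer_iff.1 hc d hd
    have he : c⁻¹ * d * c = d := by rw [mul_assoc, hcd, inv_mul_cancel_left]
    rwa [he] at h3
  obtain ⟨g, hg⟩ := MulAction.exists_smul_eq G A P
  subst hg
  refine ⟨g • B, fun R x hx => ?_⟩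
  have hxD : g⁻¹ * x * g ∈ D :=
    ⟨Transfer.Fusion.mem_smul_sylow_iff.1 hx.1, Transfer.Fusion.mem_smul_sylow_iff.1 hx.2⟩
  have := Transfer.Fusion.mem_smul_sylow_iff.1 (hall (g⁻¹ • R) hxD)
  have he : g⁻¹⁻¹ * (g⁻¹ * x * g) * g⁻¹ = x := by group
  rwa [he] at this

/-- If `n_p < p ^ 2`, any other Sylow subgroup meets `P` in index `p`. -/
theorem relIndex_eq_prime (hn : Nat.card (Sylow p G) < p ^ 2) {P Q : Sylow p G} (h : Q ≠ P) :
    (Q : Subgroup G).relIndex P = p := by
  have hp : p.Prime := Fact.out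
  have hstab : MulAction.stabilizer (P : Subgroup G) Q =
      (normalizer ((Q : Subgroup G) : Set G)).subgroupOf P := by
    ext x
    rw [MulAction.mem_stabilizer_iff, mem_subgroupOf]
    exact Sylow.smul_eq_iff_mem_normalizer
  have heq : (Q : Subgroup G).relIndex P =
      (normalizer ((Q : Subgroup G) : Set G)).relIndex P := by
    rw [← inf_relIndex_right (normalizer ((Q : Subgroup G) : Set G)),
      ← inf_relIndex_right (Q : Subgroup G), inf_comm _ (P : Subgroup G),
      inf_comm (normalizer _) (P : Subgroup G)]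
    congr 1
    exact (P.2.inf_normalizer_sylow Q).symm
  have hle : (Q : Subgroup G).relIndex P ≤ Nat.card (Sylow p G) := by
    rw [heq, relIndex, ← hstab, MulAction.index_stabilizer, ← Nat.card_coe_set_eq]
    exact Nat.card_le_card_of_injective _ Subtype.val_injective
  obtain ⟨k, hk⟩ : ∃ k, (Q : Subgroup G).relIndex P = p ^ k := by
    obtain ⟨m, hm⟩ := P.2.exists_card_eq
    obtain ⟨k, -, hk⟩ := (Nat.dvd_prime_pow hp).1 (hm ▸ relIndex_dvd_card (Q : Subgroup G) P)
    exact ⟨k, hk⟩
  have h2 : k < 2 := (Nat.pow_lt_pow_iff_right hp.one_lt).1 (by omega)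
  interval_cases k
  · rw [pow_zero, relIndex_eq_one] at hk
    exact absurd (Sylow.ext (P.3 Q.2 hk)) h
  · simpa using hk

theorem isMulCommutative_of_card_sylow_lt (hn : Nat.card (Sylow p G) < p ^ 2)
    (hcore : ∀ x : G, (∀ Q : Sylow p G, x ∈ (Q : Subgroup G)) → x = 1) (P : Sylow p G) :
    IsMulCommutative (P : Subgroup G) := by
  have hp : p.Prime := Fact.out
  rw [← commutator_eq_bot_iff, eq_bot_iff]
  intro x hx
  rw [mem_bot]
  refine Subtype.ext (hcore x.1 fun Q => ?_)
  by_cases hQ : Q = P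
  · subst hQ; exact x.2
  have hidx : ((Q : Subgroup G).subgroupOf P).index = p := relIndex_eq_prime hn hQ
  have hmin : (Nat.card (P : Subgroup G)).minFac = p := by
    obtain ⟨k, hk⟩ := P.2.exists_card_eq
    have hk0 : k ≠ 0 := by
      rintro rfl
      have := hidx ▸ index_dvd_card ((Q : Subgroup G).subgroupOf P)
      rw [hk] at this
      simp [hp.ne_one] at this
    rw [hk, Nat.pow_minFac hk0, hp.minFac_eq]
  haveI hnorm : ((Q : Subgroup G).subgroupOf (P : Subgroup G)).Normal :=
    normal_of_index_eq_minFac_card (by rw [hmin, hidx])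
  haveI : IsCyclic ((P : Subgroup G) ⧸ (Q : Subgroup G).subgroupOf P) :=
    isCyclic_of_prime_card (p := p) hidx
  have := hnorm.quotient_commutative_iff_commutator_le.1 inferInstance
  exact this hx

theorem card_eq_prime_of_card_sylow_lt (hn : Nat.card (Sylow p G) < p ^ 2)
    (hcore : ∀ x : G, (∀ Q : Sylow p G, x ∈ (Q : Subgroup G)) → x = 1) (hp : p ∣ Nat.card G)
    (P : Sylow p G) : Nat.card (P : Subgroup G) = p := by
  obtain ⟨Q, hQ⟩ := exists_inf_le_all (isMulCommutative_of_card_sylow_lt hn hcore) P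
  have hbot : (P : Subgroup G) ⊓ Q = ⊥ :=
    eq_bot_iff.2 fun x hx => mem_bot.2 (hcore x fun R => hQ R hx)
  have hne : Q ≠ P := by
    rintro rfl
    rw [inf_idem] at hbot
    exact Q.ne_bot_of_dvd_card hp hbot
  have := relIndex_eq_prime hn hne
  rwa [← inf_relIndex_left, hbot, relIndex_bot_left] at this

end Cfsg.Agent.Counting.Brodkey
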