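import Cfsg.Agent.Lib.Counting.Commuting
import Mathlib

/-!
A permutation group of degree `d` with `t` orbits has at most `2 ^ (d - t)` conjugacy classes.

Fix a point `a` moved by `K` and let `H` be its stabilizer. The elements of a coset `x K` (with
`H ≤ x K x⁻¹`) are sorted by the `H`-orbit of their value at `a`; each part is a coset `y H` of the
same kind, and fixing one more point splits off enough orbits to pay for the number of parts.
-/

set_option autoImplicit false

namespace Cfsg.Agent.Counting.PermClasses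

open MulAction

variable {Ω : Type*}

/-- The number of orbits of `H`. -/
noncomputable def orb (H : Subgroup (Equiv.Perm Ω)) : ℕ :=
  Nat.card (MulAction.orbitRel.Quotient H Ω)

theorem orb_le [Finite Ω] (H : Subgroup (Equiv.Perm Ω)) : orb H ≤ Nat.card Ω :=
  Nat.card_le_card_of_surjective _ Quotient.mk''_surjective

/-- `H`-orbits inside the `K`-orbit of `c`, plus the other `K`-orbits, are `H`-orbits. -/
theorem fiber_add_orb_le [Finite Ω] {H K : Subgroup (Equiv.Perm Ω)} (hHK : H ≤ K) (c : Ω)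
    (S : Finset (orbitRel.Quotient H Ω)) (hS : ∀ o ∈ S, o.out ∈ orbit K c) :
    S.card + orb K ≤ orb H + 1 := by
  classical
  haveI := Fintype.ofFinite Ω
  have hlift : ∀ u v : Ω, u ∈ orbit H v → u ∈ orbit K v := by
    rintro u v ⟨⟨h, hh⟩, rfl⟩
    exact ⟨⟨h, hHK hh⟩, rfl⟩
  have hout : ∀ u : Ω, (Quotient.mk'' u : orbitRel.Quotient H Ω).out ∈ orbit K u := fun u =>
    hlift _ _ (Quotient.eq''.1 (Quotient.out_eq (Quotient.mk'' u : orbitRel.Quotient H Ω)))
  let ψ : orbitRel.Quotient K Ω → orbitRel.Quotient H Ω := fun q => Quotient.mk'' q.out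
  have hψ : ∀ q : orbitRel.Quotient K Ω, (Quotient.mk'' (ψ q).out : orbitRel.Quotient K Ω) = q :=
    fun q => (Quotient.eq''.2 (hout q.out)).trans (Quotient.out_eq q)
  set T := (Finset.univ.erase (Quotient.mk'' c : orbitRel.Quotient K Ω)).image ψ
  have hT : T.card = orb K - 1 := by
    rw [Finset.card_image_of_injective _ (show Function.Injective ψ from fun a b e => by
      rw [← hψ a, ← hψ b, e]),
      Finset.card_erase_of_mem (Finset.mem_univ _), Finset.card_univ, orb, Nat.card_eq_fintype_card]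
  have hd : Disjoint S T := Finset.disjoint_left.2 fun o ho hoT => by
    obtain ⟨q, hq, rfl⟩ := Finset.mem_image.1 hoT
    refine (Finset.mem_erase.1 hq).1 ?_
    rw [← hψ q]
    exact Quotient.eq''.2 (hS _ ho)
  have h1 := Finset.card_le_univ (S ∪ T)
  rw [Finset.card_union_of_disjoint hd, hT, ← Nat.card_eq_fintype_card] at h1
  unfold orb at *
  omega

theorem orb_lt [Finite Ω] {H K : Subgroup (Equiv.Perm Ω)} (hHK : H ≤ K) {a : Ω}
    (ha : ∀ h ∈ H, h a = a) {k : Equiv.Perm Ω} (hk : k ∈ K) (hka : k a ≠ a) :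
    orb K + 1 ≤ orb H := by
  classical
  have hne : (Quotient.mk'' a : orbitRel.Quotient H Ω) ≠ Quotient.mk'' (k a) := by
    intro e
    obtain ⟨⟨h, hh⟩, e'⟩ : k a ∈ orbit H a := Quotient.eq''.1 e.symm
    exact hka (e'.symm.trans (ha h hh))
  have := fiber_add_orb_le hHK a {Quotient.mk'' a, Quotient.mk'' (k a)} fun o ho => by
    have hmem : ∀ u ∈ orbit K a, (Quotient.mk'' u : orbitRel.Quotient H Ω).out ∈ orbit K a := by
      intro u hu
      obtain ⟨⟨h, hh⟩, e⟩ :=
        (Quotient.eq''.1 (Quotient.out_eq (Quotient.mk'' u : orbitRel.Quotient H Ω)) :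
          (Quotient.mk'' u : orbitRel.Quotient H Ω).out ∈ orbit H u)
      rw [← e]
      obtain ⟨k', rfl⟩ := hu
      exact ⟨⟨h, hHK hh⟩ * k', mul_smul _ _ _⟩
    rcases Finset.mem_insert.1 ho with rfl | ho
    · exact hmem a (mem_orbit_self a)
    · rw [Finset.mem_singleton.1 ho]
      exact hmem _ ⟨⟨k, hk⟩, rfl⟩
  rw [Finset.card_pair hne] at this
  omega

/-- Every element of `X` is `H`-conjugate to one of at most `N` elements. -/
def Covered (H : Subgroup (Equiv.Perm Ω)) (X : Set (Equiv.Perm Ω)) (N : ℕ) : Prop :=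
  ∃ T : Finset (Equiv.Perm Ω), T.card ≤ N ∧ ∀ x ∈ X, ∃ h ∈ H, h * x * h⁻¹ ∈ T

/-- A coset `y₀ H` in the normalizer of `H` has at most `k(H)` orbits under conjugation by `H`. -/
theorem covered_coset [Finite Ω] (H : Subgroup (Equiv.Perm Ω)) (y₀ : Equiv.Perm Ω)
    (hy : ∀ h ∈ H, y₀⁻¹ * h * y₀ ∈ H) :
    Covered H {y | y₀⁻¹ * y ∈ H} (Nat.card (ConjClasses H)) := by
  classical
  haveI := Fintype.ofFinite Ω
  haveI := Fintype.ofFinite H
  let Y := {y : Equiv.Perm Ω // y₀⁻¹ * y ∈ H}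
  letI : MulAction H Y :=
    { smul := fun h y => ⟨(h : Equiv.Perm Ω) * y.1 * (h : Equiv.Perm Ω)⁻¹, by
        have e : y₀⁻¹ * ((h : Equiv.Perm Ω) * y.1 * (h : Equiv.Perm Ω)⁻¹) =
            (y₀⁻¹ * h * y₀) * (y₀⁻¹ * y.1) * (h : Equiv.Perm Ω)⁻¹ := by group
        rw [e]
        exact mul_mem (mul_mem (hy h h.2) y.2) (inv_mem h.2)⟩
      one_smul := fun y => Subtype.ext (by show (1 : Equiv.Perm Ω) * y.1 * 1⁻¹ = y.1; group)
      mul_smul := fun g h y => Subtype.ext (by
        show ((g : Equiv.Perm Ω) * h) * y.1 * ((g : Equiv.Perm Ω) * h)⁻¹ =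
          g * (h * y.1 * (h : Equiv.Perm Ω)⁻¹) * (g : Equiv.Perm Ω)⁻¹
        group) }
  have hfix : ∀ h : H, Nat.card (fixedBy Y h) ≤ Nat.card (Subgroup.centralizer ({h} : Set H)) := by
    intro h
    have hc : ∀ y : fixedBy Y h, (h : Equiv.Perm Ω) * y.1.1 = y.1.1 * h := fun y =>
      mul_inv_eq_iff_eq_mul.1 (congrArg Subtype.val y.2)
    rcases isEmpty_or_nonempty (fixedBy Y h) with he | ⟨⟨y1⟩⟩
    · simp
    refine Nat.card_le_card_of_injective (fun y => ⟨⟨y1.1.1⁻¹ * y.1.1, ?_⟩, ?_⟩) ?_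
    · have := mul_mem (inv_mem y1.1.2) y.1.2
      simpa [mul_assoc] using this
    · refine Subgroup.mem_centralizer_singleton_iff.2 (Subtype.ext ?_)
      show y1.1.1⁻¹ * y.1.1 * h = h * (y1.1.1⁻¹ * y.1.1)
      have e1 : (h : Equiv.Perm Ω) * y1.1.1⁻¹ = y1.1.1⁻¹ * h := by
        rw [eq_inv_mul_iff_mul_eq, ← mul_assoc, ← hc y1, mul_inv_cancel_right]
      rw [mul_assoc, ← hc y, ← mul_assoc, ← e1, mul_assoc]
    · intro a b e
      refine Subtype.ext (Subtype.ext (mul_left_cancel (a := y1.1.1⁻¹) ?_))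
      exact congrArg Subtype.val (congrArg Subtype.val e)
  haveI := Fintype.ofFinite Y
  have key := MulAction.sum_card_fixedBy_eq_card_orbits_mul_card_group H Y
  have hle : Nat.card (orbitRel.Quotient H Y) * Nat.card H ≤
      Nat.card (ConjClasses H) * Nat.card H := by
    rw [Nat.card_eq_fintype_card, Nat.card_eq_fintype_card (α := H), ← key,
      ← Nat.card_eq_fintype_card (α := H), ← Counting.Commuting.sum_card_centralizer]
    exact Finset.sum_le_sum fun h _ => by rw [← Nat.card_eq_fintype_card]; exact hfix h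
  haveI := Fintype.ofFinite (orbitRel.Quotient H Y)
  refine ⟨Finset.univ.image fun o : orbitRel.Quotient H Y => o.out.1, ?_, ?_⟩
  · refine Finset.card_image_le.trans ?_
    rw [Finset.card_univ, ← Nat.card_eq_fintype_card]
    exact Nat.le_of_mul_le_mul_right hle Nat.card_pos
  · intro x hx
    obtain ⟨h, hh⟩ : (Quotient.mk'' (⟨x, hx⟩ : Y) : orbitRel.Quotient H Y).out ∈
        orbit H (⟨x, hx⟩ : Y) :=
      Quotient.eq''.1 (Quotient.out_eq (Quotient.mk'' (⟨x, hx⟩ : Y) : orbitRel.Quotient H Y))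
    exact ⟨h, h.2, Finset.mem_image.2 ⟨_, Finset.mem_univ _, (congrArg Subtype.val hh).symm⟩⟩

theorem arith {t d oK oH : ℕ} (h1 : oK + 1 ≤ oH) (h2 : t + oK ≤ oH + 1) (hd : oH ≤ d) :
    t * 2 ^ (d - oH) ≤ 2 ^ (d - oK) := by
  have h3 : 2 ^ (d - oK) = 2 ^ (oH - oK) * 2 ^ (d - oH) := by
    rw [← pow_add]; congr 1; omega
  rw [h3]
  refine Nat.mul_le_mul_right _ ?_
  obtain ⟨e, he⟩ : ∃ e, oH - oK = e + 1 := ⟨oH - oK - 1, by omega⟩
  rw [he]
  exact le_trans (show t ≤ e + 1 + 1 by omega) (Nat.lt_two_pow_self)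

/-- A permutation group of degree `d` with `t` orbits has at most `2 ^ (d - t)` classes. -/
theorem card_conjClasses_le_two_pow [Finite Ω] (K : Subgroup (Equiv.Perm Ω)) :
    Nat.card (ConjClasses K) ≤ 2 ^ (Nat.card Ω - orb K) := by
  suffices ∀ n, ∀ K : Subgroup (Equiv.Perm Ω), Nat.card K = n →
      Nat.card (ConjClasses K) ≤ 2 ^ (Nat.card Ω - orb K) ∧
      ∀ (a : Ω) (x0 : Equiv.Perm Ω), (∀ h ∈ K, h a = a → x0⁻¹ * h * x0 ∈ K) →
        Covered (K ⊓ stabilizer (Equiv.Perm Ω) a) {x | x0⁻¹ * x ∈ K}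
          (2 ^ (Nat.card Ω - orb K)) from (this _ K rfl).1
  intro n
  induction n using Nat.strong_induction_on with
  | _ n ih =>
  intro K hn
  classical
  haveI := Fintype.ofFinite Ω
  have hmoved : ∀ (a : Ω) (x0 : Equiv.Perm Ω), (∀ h ∈ K, h a = a → x0⁻¹ * h * x0 ∈ K) →
      (∃ k ∈ K, k a ≠ a) →
      Covered (K ⊓ stabilizer (Equiv.Perm Ω) a) {x | x0⁻¹ * x ∈ K} (2 ^ (Nat.card Ω - orb K)) := by
    intro a x0 hx0 ⟨k, hk, hka⟩
    set H := K ⊓ stabilizer (Equiv.Perm Ω) a with hH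
    have hHa : ∀ h ∈ H, h a = a := fun h hh => hh.2
    have hlt : Nat.card H < n := by
      rw [← hn]
      refine lt_of_le_of_ne (Subgroup.card_le_of_le inf_le_left) fun e => hka ?_
      have := Subgroup.eq_of_le_of_card_ge (inf_le_left : H ≤ K) e.ge
      exact hHa k (this.symm ▸ hk : k ∈ K ⊓ stabilizer (Equiv.Perm Ω) a)
    haveI := Fintype.ofFinite (orbitRel.Quotient H Ω)
    let S : Finset (orbitRel.Quotient H Ω) :=
      Finset.univ.filter fun o => ∃ k ∈ K, x0 (k a) = o.out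
    have hS : S.card + orb K ≤ orb H + 1 := by
      let K' := K.map (MulAut.conj x0).toMonoidHom
      have hHK' : H ≤ K' := fun h hh => ⟨x0⁻¹ * h * x0, hx0 h hh.1 hh.2, by
        show x0 * (x0⁻¹ * h * x0) * x0⁻¹ = h
        group⟩
      have horb : orb K' = orb K := by
        refine (Nat.card_congr (Quotient.congr x0 fun u v => ?_)).symm
        constructor
        · rintro ⟨⟨g, hg⟩, rfl⟩
          exact ⟨⟨_, g, hg, rfl⟩, by
            show x0 (g (x0⁻¹ (x0 v))) = x0 (g v)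
            rw [Equiv.Perm.inv_def, Equiv.symm_apply_apply]⟩
        · rintro ⟨⟨_, g, hg, rfl⟩, e⟩
          refine ⟨⟨g, hg⟩, x0.injective ?_⟩
          have e' : x0 (g (x0⁻¹ (x0 v))) = x0 u := e
          rw [Equiv.Perm.inv_def, Equiv.symm_apply_apply] at e'
          exact e'
      have := fiber_add_orb_le hHK' (x0 a) S fun o ho => by
        obtain ⟨k', hk', he⟩ := (Finset.mem_filter.1 ho).2
        refine ⟨⟨_, k', hk', rfl⟩, ?_⟩
        show x0 (k' (x0⁻¹ (x0 a))) = o.out
        rw [Equiv.Perm.inv_def, Equiv.symm_apply_apply, he]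
      omega
    have hchild : ∀ o ∈ S, ∃ T : Finset (Equiv.Perm Ω), T.card ≤ 2 ^ (Nat.card Ω - orb H) ∧
        ∀ x, x0⁻¹ * x ∈ K → x a = o.out → ∃ h ∈ H, h * x * h⁻¹ ∈ T := by
      intro o ho
      obtain ⟨k', hk', hk'o⟩ := (Finset.mem_filter.1 ho).2
      set x1 := x0 * k' with hx1
      obtain ⟨T, hT, hcov⟩ := (ih _ hlt H rfl).2 o.out x1 (fun h hh hho => by
        refine Subgroup.mem_inf.2 ⟨?_, ?_⟩
        · rw [hx1]
          have := mul_mem (mul_mem (inv_mem hk') (hx0 h hh.1 (hHa h hh))) hk'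
          convert this using 1
          group
        · show (x1⁻¹ * h * x1) a = a
          rw [Equiv.Perm.mul_apply, Equiv.Perm.mul_apply, Equiv.Perm.inv_def, Equiv.symm_apply_eq]
          show h (x0 (k' a)) = x0 (k' a)
          rw [hk'o, hho])
      refine ⟨T, hT, fun x hx hxa => ?_⟩
      obtain ⟨h, hh, hh2⟩ := hcov x (Subgroup.mem_inf.2 ⟨by
        have := mul_mem (inv_mem hk') hx
        rw [hx1]
        convert this using 1
        group, by
        show (x1⁻¹ * x) a = a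
        rw [Equiv.Perm.mul_apply, Equiv.Perm.inv_def, Equiv.symm_apply_eq, hxa]
        exact hk'o.symm⟩)
      exact ⟨h, hh.1, hh2⟩
    choose! T hT hcov using hchild
    refine ⟨S.biUnion T, ?_, ?_⟩
    · refine Finset.card_biUnion_le.trans ((Finset.sum_le_card_nsmul _ _ _ hT).trans ?_)
      rw [smul_eq_mul]
      exact arith (orb_lt inf_le_left hHa hk hka) hS (orb_le H)
    · intro x hx
      set o : orbitRel.Quotient H Ω := Quotient.mk'' (x a) with ho
      obtain ⟨⟨g, hg⟩, hgo⟩ : o.out ∈ orbit H (x a) := Quotient.eq''.1 (Quotient.out_eq o)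
      have hgo' : g (x a) = o.out := hgo
      set x' := g * x * g⁻¹ with hx'
      have hx'K : x0⁻¹ * x' ∈ K := by
        have := mul_mem (mul_mem (hx0 g hg.1 (hHa g hg)) hx) (inv_mem hg.1)
        rw [hx']
        convert this using 1
        group
      have hx'a : x' a = o.out := by
        have ga : g⁻¹ a = a := by rw [Equiv.Perm.inv_def, Equiv.symm_apply_eq, hHa g hg]
        rw [hx', Equiv.Perm.mul_apply, Equiv.Perm.mul_apply, ga, hgo']
      have hoS : o ∈ S := Finset.mem_filter.2 ⟨Finset.mem_univ _, x0⁻¹ * x', hx'K, by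
        rw [Equiv.Perm.mul_apply, Equiv.Perm.inv_def, Equiv.apply_symm_apply, hx'a]⟩
      obtain ⟨h, hh, hh2⟩ := hcov o hoS x' hx'K hx'a
      refine ⟨h * g, mul_mem hh hg, Finset.mem_biUnion.2 ⟨o, hoS, ?_⟩⟩
      convert hh2 using 1
      rw [hx']
      group
  have hk1 : Nat.card (ConjClasses K) ≤ 2 ^ (Nat.card Ω - orb K) := by
    by_cases h : ∃ a : Ω, ∃ k ∈ K, k a ≠ a
    · obtain ⟨a, ha⟩ := h
      obtain ⟨T, hT, hcov⟩ := hmoved a 1 (fun h hh _ => by simpa using hh) ha
      refine le_trans ?_ hT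
      have hex : ∀ c : ConjClasses K, ∃ t ∈ T, ∃ y : K, (y : Equiv.Perm Ω) = t ∧ ConjClasses.mk y = c := by
        intro c
        induction c using Quotient.inductionOn with
        | _ y =>
          obtain ⟨h, hh, hh2⟩ := hcov y (by simp)
          exact ⟨_, hh2, ⟨h, hh.1⟩ * y * (⟨h, hh.1⟩ : K)⁻¹, rfl,
            ConjClasses.mk_eq_mk_iff_isConj.2 (isConj_iff.2 ⟨(⟨h, hh.1⟩ : K)⁻¹, by group⟩)⟩
      choose t ht y hy hyc using hex
      refine le_trans (Nat.card_le_card_of_injective (fun c => (⟨t c, ht c⟩ : T)) fun c c' e => ?_)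
        (by rw [Nat.card_eq_fintype_card, Fintype.card_coe])
      have e' : y c = y c' := Subtype.ext (by rw [hy, hy, Subtype.mk.injEq] at *; exact e)
      rw [← hyc c, ← hyc c', e']
    · push Not at h
      haveI : Subsingleton K := ⟨fun u v => Subtype.ext (Equiv.ext fun w => by
        rw [h w u u.2, h w v v.2])⟩
      calc Nat.card (ConjClasses K) ≤ Nat.card K :=
            Nat.card_le_card_of_surjective _ ConjClasses.mk_surjective
        _ ≤ 1 := Finite.card_le_one_iff_subsingleton.2 inferInstance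
        _ ≤ _ := Nat.one_le_two_pow
  refine ⟨hk1, fun a x0 hx0 => ?_⟩
  by_cases hm : ∃ k ∈ K, k a ≠ a
  · exact hmoved a x0 hx0 hm
  · push Not at hm
    obtain ⟨T, hT, hcov⟩ := covered_coset K x0 fun h hh => hx0 h hh (hm h hh)
    exact ⟨T, hT.trans hk1, fun x hx => by
      obtain ⟨h, hh, hh2⟩ := hcov x hx
      exact ⟨h, ⟨hh, hm h hh⟩, hh2⟩⟩

end Cfsg.Agent.Counting.PermClasses
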